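import Mathlib
import Cfsg.Agent.H79.UnitaryThreeThree
import Cfsg.Agent.H3.Simple
import Cfsg.Agent.H3.Isotropic
import Cfsg.Agent.H58.PSUThree.LocalClosed
import Cfsg.Agent.H38.TwoTransInd

/-! The stabiliser of an isotropic line in `SU(3, 3)` and its linear characters. -/

set_option autoImplicit false
set_option maxRecDepth 10000

namespace Cfsg.Agent.H38.UTT

open Matrix Cfsg
open Cfsg.Agent.H79.UThree (Nine exists_nine_hom exists_witness mat mat_injective)

variable {F : Type*} [Field F] [Fintype F]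

/-- The eigenvalue relation on a nonzero vector. -/
def Eig (g : SU 3 F 3) (v : Fin 3 → F) (c : F) : Prop := mat g *ᵥ v = c • v

/-- The stabiliser of the line through a nonzero vector. -/
def lineStab (v : Fin 3 → F) (hv : v ≠ 0) : Subgroup (SU 3 F 3) where
  carrier := {g | ∃ c : F, c ≠ 0 ∧ Eig g v c}
  one_mem' := ⟨1, one_ne_zero, by simp [Eig, map_one]⟩
  mul_mem' := by
    rintro g k ⟨c, hc, hg⟩ ⟨d, hd, hk⟩
    refine ⟨d * c, mul_ne_zero hd hc, ?_⟩
    rw [Eig, map_mul, ← mulVec_mulVec, hk, mulVec_smul, hg, smul_smul]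
  inv_mem' := by
    rintro g ⟨c, hc, hg⟩
    refine ⟨c⁻¹, inv_ne_zero hc, ?_⟩
    have h := congrArg (fun w => c⁻¹ • (mat g⁻¹ *ᵥ w)) hg
    simp only [mulVec_mulVec, ← map_mul, inv_mul_cancel, map_one, one_mulVec, mulVec_smul,
      smul_smul, inv_mul_cancel₀ hc, one_smul] at h
    exact h.symm

theorem eig_unique {g : SU 3 F 3} {v : Fin 3 → F} (hv : v ≠ 0) {c d : F} (h1 : Eig g v c)
    (h2 : Eig g v d) : c = d := smul_left_injective F hv (h1.symm.trans h2)

/-- The eigenvalue of a member of the stabiliser. -/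
noncomputable def eigVal {v : Fin 3 → F} {hv : v ≠ 0} (g : lineStab v hv) : F := g.2.choose

theorem eigVal_spec {v : Fin 3 → F} {hv : v ≠ 0} (g : lineStab v hv) :
    eigVal g ≠ 0 ∧ Eig (g : SU 3 F 3) v (eigVal g) := g.2.choose_spec

theorem eigVal_eq {v : Fin 3 → F} {hv : v ≠ 0} (g : lineStab v hv) {c : F}
    (h : Eig (g : SU 3 F 3) v c) : eigVal g = c := eig_unique hv (eigVal_spec g).2 h

/-- The eigenvalue as a homomorphism. -/
noncomputable def eigHom (v : Fin 3 → F) (hv : v ≠ 0) : lineStab v hv →* Fˣ where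
  toFun g := Units.mk0 (eigVal g) (eigVal_spec g).1
  map_one' := by
    apply Units.ext
    exact eigVal_eq _ (by simp [Eig, map_one])
  map_mul' g k := by
    apply Units.ext
    refine eigVal_eq _ ?_
    rw [Eig, Subgroup.coe_mul, map_mul, ← mulVec_mulVec, (eigVal_spec k).2, mulVec_smul,
      (eigVal_spec g).2, smul_smul, Units.val_mul, Units.val_mk0, Units.val_mk0, mul_comm]

theorem mat_mulVec_ne_zero (g : SU 3 F 3) {v : Fin 3 → F} (hv : v ≠ 0) : mat g *ᵥ v ≠ 0 :=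
  H3.SU_mulVec_ne_zero g hv

theorem mat_preserves (g : SU 3 F 3) (u v : Fin 3 → F) :
    hermForm 3 F 3 (mat g *ᵥ u) (mat g *ᵥ v) = hermForm 3 F 3 u v := g.2 u v

section Geometry

variable (hF : Fintype.card F = 9)
include hF

theorem card_sq : Fintype.card F = 3 ^ 2 := by rw [hF]; norm_num

/-- Distinct isotropic lines are not orthogonal. -/
theorem form_ne_zero {a b : Fin 3 → F} (ha0 : a ≠ 0) (ha : hermForm 3 F 3 a a = 0)
    (hb : hermForm 3 F 3 b b = 0) (hne : ∀ c : F, b ≠ c • a) : hermForm 3 F 3 a b ≠ 0 := by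
  intro h
  obtain ⟨c, hc⟩ := H58.PSUThreeLocal.proportional (card_sq hF) ha0 ha hb
    ((H3.hermForm_eq_zero_comm (card_sq hF)).1 h)
  exact hne c hc

theorem indep {a b : Fin 3 → F} (ha0 : a ≠ 0) (hne : ∀ c : F, b ≠ c • a) :
    LinearIndependent F ![a, b] :=
  (LinearIndependent.pair_iff' ha0).2 fun c hc => hne c hc.symm

/-- Pairs of distinct isotropic lines are permuted transitively. -/
theorem exists_map_pair {a b a' b' : Fin 3 → F} (ha0 : a ≠ 0) (hb0 : b ≠ 0)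
    (ha : hermForm 3 F 3 a a = 0) (hb : hermForm 3 F 3 b b = 0) (hne : ∀ c : F, b ≠ c • a)
    (ha0' : a' ≠ 0) (ha' : hermForm 3 F 3 a' a' = 0) (hb' : hermForm 3 F 3 b' b' = 0)
    (hne' : ∀ c : F, b' ≠ c • a') :
    ∃ g : SU 3 F 3, (∃ c : F, c ≠ 0 ∧ mat g *ᵥ a = c • a') ∧
      ∃ c : F, c ≠ 0 ∧ mat g *ᵥ b = c • b' := by
  obtain ⟨g, ⟨c, hc⟩, d, hd⟩ := H3.exists_SU_map_pair (card_sq hF) ha hb (indep hF ha0 hne)
    ha' hb' (indep hF ha0' hne')
    (iff_of_false (form_ne_zero hF ha0 ha hb hne) (form_ne_zero hF ha0' ha' hb' hne'))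
  refine ⟨g, ⟨c, ?_, hc⟩, d, ?_, hd⟩
  · rintro rfl
    exact mat_mulVec_ne_zero g ha0 (hc.trans (zero_smul F a'))
  · rintro rfl
    exact mat_mulVec_ne_zero g hb0 (hd.trans (zero_smul F b'))

theorem card_SU_three : Nat.card (SU 3 F 3) = 6048 := by
  have h1 := H3.card_SU (card_sq hF) (n := 3) (by norm_num)
  rw [H3.card_GU (card_sq hF) 3] at h1
  simp only [Finset.prod_range_succ, Finset.prod_range_zero] at h1
  norm_num [Nat.even_add_one] at h1
  omega

end Geometry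

/-- A configuration: two isotropic lines and an element of order eight acting on the pair. -/
structure Config (F : Type*) [Field F] [Fintype F] where
  card : Fintype.card F = 9
  ι : Nine →+* F
  bij : Function.Bijective ι
  a : Fin 3 → F
  b : Fin 3 → F
  ha : a = ι ∘ ![⟨1, 0⟩, ⟨0, 0⟩, ⟨2, 1⟩]
  hb : b = ι ∘ ![⟨1, 0⟩, ⟨0, 0⟩, ⟨1, 2⟩]

theorem exists_config (hF : Fintype.card F = 9) : Nonempty (Config F) := by
  obtain ⟨ι, hι⟩ := exists_nine_hom F hF
  exact ⟨⟨hF, ι, hι, _, _, rfl, rfl⟩⟩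

/-- The hermitian form over the model. -/
def hNine (u v : Fin 3 → Nine) : Nine := u 0 * v 0 ^ 3 + u 1 * v 1 ^ 3 + u 2 * v 2 ^ 3

theorem form_comp (ι : Nine →+* F) (u v : Fin 3 → Nine) :
    hermForm 3 F 3 (ι ∘ u) (ι ∘ v) = ι (hNine u v) := by
  simp [hermForm, hNine, Fin.sum_univ_three, map_add, map_mul, map_pow]

/-- Normalised isotropic vectors over the model. -/
def IsNorm (t : Nine × Nine × Nine) : Prop :=
  hNine ![t.1, t.2.1, t.2.2] ![t.1, t.2.1, t.2.2] = 0 ∧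
    (t.1 = 1 ∨ t.1 = 0 ∧ (t.2.1 = 1 ∨ t.2.1 = 0 ∧ t.2.2 = 1))

instance : DecidablePred IsNorm := fun t => by unfold IsNorm; infer_instance

theorem card_norm : Fintype.card {t : Nine × Nine × Nine // IsNorm t} = 28 := by decide +kernel

theorem exists_normalise : ∀ t : Nine × Nine × Nine, hNine ![t.1, t.2.1, t.2.2] ![t.1, t.2.1, t.2.2] = 0 →
    t ≠ (0, 0, 0) → ∃ c : Nine, IsNorm (c * t.1, c * t.2.1, c * t.2.2) := by decide +kernel

theorem norm_unique : ∀ t : Nine × Nine × Nine, IsNorm t → ∀ c : Nine,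
    IsNorm (c * t.1, c * t.2.1, c * t.2.2) → (c * t.1, c * t.2.1, c * t.2.2) = t := by
  decide +kernel

namespace Config

variable (C : Config F)

theorem a_ne_zero : C.a ≠ 0 := fun h => by
  have := congrFun h 0
  simp [C.ha] at this
  exact one_ne_zero ((map_one C.ι).symm.trans this)

theorem b_ne_zero : C.b ≠ 0 := fun h => by
  have := congrFun h 0
  simp [C.hb] at this
  exact one_ne_zero ((map_one C.ι).symm.trans this)

theorem a_iso : hermForm 3 F 3 C.a C.a = 0 := by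
  rw [C.ha, form_comp, show hNine _ _ = 0 by decide +kernel, map_zero]

theorem b_iso : hermForm 3 F 3 C.b C.b = 0 := by
  rw [C.hb, form_comp, show hNine _ _ = 0 by decide +kernel, map_zero]

theorem b_not_mem : ∀ c : F, C.b ≠ c • C.a := by
  intro c h
  obtain ⟨c, rfl⟩ := C.bij.2 c
  have h0 := congrFun h 0
  have h2 := congrFun h 2
  simp only [C.ha, C.hb, Pi.smul_apply, smul_eq_mul, Function.comp_apply, ← map_mul] at h0 h2
  have e0 := C.bij.1 h0
  have e2 := C.bij.1 h2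
  have key : ∀ c : Nine, (⟨1, 0⟩ : Nine) = c * ⟨1, 0⟩ → (⟨1, 2⟩ : Nine) = c * ⟨2, 1⟩ → False := by
    decide +kernel
  exact key c e0 e2

/-- The stabiliser of the first line. -/
abbrev H : Subgroup (SU 3 F 3) := lineStab C.a C.a_ne_zero

theorem not_mem_iff {x : SU 3 F 3} : x ∉ C.H ↔ ∀ c : F, mat x *ᵥ C.a ≠ c • C.a := by
  constructor
  · intro hx c hc
    exact hx ⟨c, fun h0 => mat_mulVec_ne_zero x C.a_ne_zero (by rw [hc, h0, zero_smul]), hc⟩
  · rintro h ⟨c, -, hc⟩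
    exact h c hc

theorem image_iso (x : SU 3 F 3) : hermForm 3 F 3 (mat x *ᵥ C.a) (mat x *ᵥ C.a) = 0 :=
  (mat_preserves x _ _).trans C.a_iso

theorem two : TwoTrans.Two C.H := by
  intro x y hx hy
  obtain ⟨k, ⟨c, hc0, hc⟩, d, hd0, hd⟩ := exists_map_pair C.card C.a_ne_zero
    (mat_mulVec_ne_zero x C.a_ne_zero) C.a_iso (C.image_iso x) (C.not_mem_iff.1 hx)
    C.a_ne_zero C.a_iso (C.image_iso y) (C.not_mem_iff.1 hy)
  refine ⟨k, ⟨c, hc0, hc⟩, d, hd0, ?_⟩
  rw [Eig, map_mul, map_mul, ← mulVec_mulVec, ← mulVec_mulVec, hd, mulVec_smul, mulVec_mulVec,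
    ← map_mul, inv_mul_cancel, map_one, one_mulVec]

theorem exists_to (w : Fin 3 → F) (hw0 : w ≠ 0) (hw : hermForm 3 F 3 w w = 0) :
    ∃ g : SU 3 F 3, ∃ c : F, c ≠ 0 ∧ mat g *ᵥ C.a = c • w := by
  by_cases h : ∀ c : F, w ≠ c • C.a
  · obtain ⟨g, hg, -⟩ := exists_map_pair C.card C.a_ne_zero C.b_ne_zero C.a_iso C.b_iso
      C.b_not_mem hw0 hw C.a_iso (fun c hc => by
        have hc0 : c ≠ 0 := fun h0 => C.a_ne_zero (by rw [hc, h0, zero_smul])
        exact h c⁻¹ (by rw [hc, smul_smul, inv_mul_cancel₀ hc0, one_smul]))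
    exact ⟨g, hg⟩
  · push Not at h
    obtain ⟨c, hc⟩ := h
    have hc0 : c ≠ 0 := fun h0 => hw0 (by rw [hc, h0, zero_smul])
    exact ⟨1, c⁻¹, inv_ne_zero hc0, by rw [map_one, one_mulVec, hc, smul_smul, inv_mul_cancel₀ hc0, one_smul]⟩

theorem index_H : C.H.index = 28 := by
  classical
  let vec : Nine × Nine × Nine → (Fin 3 → F) := fun t => C.ι ∘ ![t.1, t.2.1, t.2.2]
  have vec_ne : ∀ t, t ≠ (0, 0, 0) → vec t ≠ 0 := by
    intro t ht h
    apply ht
    have h0 := congrFun h 0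
    have h1 := congrFun h 1
    have h2 := congrFun h 2
    simp only [vec, Function.comp_apply, Pi.zero_apply, map_eq_zero_iff C.ι C.bij.1] at h0 h1 h2
    exact Prod.ext h0 (Prod.ext h1 h2)
  have vec_smul : ∀ (c : Nine) t, C.ι c • vec t = vec (c * t.1, c * t.2.1, c * t.2.2) := by
    intro c t
    funext i
    fin_cases i <;> simp [vec, map_mul]
  have hsur : ∀ w : Fin 3 → F, ∃ t, vec t = w := by
    intro w
    obtain ⟨x, hx⟩ := C.bij.2 (w 0)
    obtain ⟨y, hy⟩ := C.bij.2 (w 1)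
    obtain ⟨z, hz⟩ := C.bij.2 (w 2)
    exact ⟨(x, y, z), funext fun i => by fin_cases i <;> simpa [vec]⟩
  have hinj : ∀ {t t'}, vec t = vec t' → t = t' := by
    intro t t' h
    exact Prod.ext (C.bij.1 (congrFun h 0)) (Prod.ext (C.bij.1 (congrFun h 1)) (C.bij.1 (congrFun h 2)))
  have hn0 : ∀ t : {t : Nine × Nine × Nine // IsNorm t}, t.1 ≠ (0, 0, 0) := by
    rintro ⟨t, ht⟩ h
    simp only at h
    subst h
    revert ht
    decide +kernel
  have hiso : ∀ t : {t : Nine × Nine × Nine // IsNorm t}, hermForm 3 F 3 (vec t.1) (vec t.1) = 0 :=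
    fun t => by rw [form_comp, t.2.1, map_zero]
  choose g hg using fun t : {t : Nine × Nine × Nine // IsNorm t} =>
    C.exists_to (vec t.1) (vec_ne _ (hn0 t)) (hiso t)
  let Φ : {t : Nine × Nine × Nine // IsNorm t} → SU 3 F 3 ⧸ C.H := fun t => QuotientGroup.mk (g t)
  have hΦ : Function.Bijective Φ := by
    constructor
    · intro t u htu
      have hm : (g t)⁻¹ * g u ∈ C.H := QuotientGroup.eq.mp htu
      obtain ⟨d, hd0, hd⟩ := hm
      obtain ⟨c, hc0, hc⟩ := hg t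
      obtain ⟨e, he0, he⟩ := hg u
      have h1 := congrArg (mat (g t) *ᵥ ·) hd
      simp only [mulVec_mulVec, ← map_mul, mul_inv_cancel_left, mulVec_smul, hc, he, smul_smul] at h1
      have h2 : vec u.1 = (e⁻¹ * (d * c)) • vec t.1 := by
        rw [mul_smul, ← h1, smul_smul, inv_mul_cancel₀ he0, one_smul]
      obtain ⟨k, hk⟩ := C.bij.2 (e⁻¹ * (d * c))
      rw [← hk, vec_smul] at h2
      have h3 := hinj h2
      exact Subtype.ext ((norm_unique t.1 t.2 k (h3 ▸ u.2)).symm.trans h3.symm)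
    · intro q
      induction q using QuotientGroup.induction_on with
      | H x =>
        obtain ⟨t, ht⟩ := hsur (mat x *ᵥ C.a)
        have ht0 : t ≠ (0, 0, 0) := by
          rintro rfl
          apply mat_mulVec_ne_zero x C.a_ne_zero
          rw [← ht]
          funext i; fin_cases i <;> simp [vec]
        have hti : hNine ![t.1, t.2.1, t.2.2] ![t.1, t.2.1, t.2.2] = 0 := by
          apply C.bij.1
          rw [← form_comp, map_zero]
          show hermForm 3 F 3 (vec t) (vec t) = 0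
          rw [ht]; exact C.image_iso x
        obtain ⟨k, hk⟩ := exists_normalise t hti ht0
        refine ⟨⟨_, hk⟩, QuotientGroup.eq.mpr ?_⟩
        obtain ⟨c, hc0, hc⟩ := hg ⟨_, hk⟩
        rw [← vec_smul, ht, smul_smul] at hc
        have hk0 : C.ι k ≠ 0 := fun h0 => by
          have h1 := hn0 ⟨_, hk⟩
          apply h1
          rw [map_eq_zero_iff C.ι C.bij.1] at h0
          simp [h0]
        refine ⟨(c * C.ι k)⁻¹, inv_ne_zero (mul_ne_zero hc0 hk0), ?_⟩
        rw [Eig]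
        have h2 := congrArg (fun w => (c * C.ι k)⁻¹ • (mat (g ⟨_, hk⟩)⁻¹ *ᵥ w)) hc
        simp only [mulVec_mulVec, mulVec_smul, ← map_mul, inv_mul_cancel, map_one, one_mulVec,
          smul_smul, inv_mul_cancel₀ (mul_ne_zero hc0 hk0), one_smul] at h2
        exact h2.symm
  rw [Subgroup.index, ← Nat.card_congr (Equiv.ofBijective Φ hΦ), Nat.card_eq_fintype_card, card_norm]

theorem card_H : Nat.card C.H = 216 := by
  have h := C.H.card_mul_index
  rw [C.index_H, card_SU_three C.card] at h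
  omega

theorem exists_outside : ∃ x : SU 3 F 3, x ∉ C.H ∧ ∃ c : F, c ≠ 0 ∧ mat x *ᵥ C.a = c • C.b := by
  obtain ⟨x, c, hc0, hc⟩ := C.exists_to C.b C.b_ne_zero C.b_iso
  refine ⟨x, C.not_mem_iff.2 fun d hd => C.b_not_mem (c⁻¹ * d) ?_, c, hc0, hc⟩
  rw [mul_smul, ← hd, hc, smul_smul, inv_mul_cancel₀ hc0, one_smul]

include C in
theorem unit_pow_eight (x : Fˣ) : x ^ 8 = 1 := by
  have : Nat.card Fˣ = 8 := by rw [Nat.card_units, Nat.card_eq_fintype_card, C.card]
  rw [← this, pow_card_eq_one']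

/-- An element fixing both lines acts on them by related scalars, and moving it across gives the
scalar on the second line. -/
theorem agree_of_pow (f : C.H →* ℂˣ) (m : ℕ) (hm : 4 ∣ m)
    (ψ : Fˣ →* ℂˣ) (hf : ∀ k, f k = ψ (eigHom _ C.a_ne_zero k) ^ m) {x : SU 3 F 3} {c : F}
    (hc0 : c ≠ 0) (hx : mat x *ᵥ C.a = c • C.b) : TwoTrans.Agree C.H f x := by
  intro k hk
  set α := eigHom _ C.a_ne_zero k with hα
  set β := eigHom _ C.a_ne_zero ⟨_, hk⟩ with hβ
  have hka : mat (k : SU 3 F 3) *ᵥ C.a = (α : F) • C.a := (eigVal_spec k).2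
  have hkb : mat (k : SU 3 F 3) *ᵥ C.b = (β : F) • C.b := by
    have h1 : mat (x⁻¹ * (k : SU 3 F 3) * x) *ᵥ C.a = (β : F) • C.a :=
      (eigVal_spec (⟨_, hk⟩ : C.H)).2
    have h2 := congrArg (fun w => c⁻¹ • (mat x *ᵥ w)) h1
    simp only [mulVec_mulVec, ← map_mul, mulVec_smul, hx] at h2
    rw [show x * (x⁻¹ * (k : SU 3 F 3) * x) = (k : SU 3 F 3) * x by group, map_mul,
      ← mulVec_mulVec, hx, mulVec_smul, smul_smul, smul_smul, smul_smul,
      inv_mul_cancel₀ hc0, one_smul, show c⁻¹ * (β : F) * c = (β : F) by field_simp] at h2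
    exact h2
  have h3 := mat_preserves (k : SU 3 F 3) C.a C.b
  rw [hka, hkb, H3.hermForm_smul_left (card_sq C.card), H3.hermForm_smul_right (card_sq C.card),
    ← mul_assoc] at h3
  have h4 : α * β ^ 3 = 1 := Units.ext (by
    push_cast
    exact mul_right_cancel₀ (form_ne_zero C.card C.a_ne_zero C.a_iso C.b_iso C.b_not_mem)
      (h3.trans (one_mul _).symm))
  obtain ⟨j, rfl⟩ := hm
  suffices hkey : β ^ 4 = α ^ 4 by
    rw [hf, hf, ← hα, ← hβ, pow_mul, pow_mul, ← map_pow ψ β, ← map_pow ψ α, hkey]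
  calc β ^ 4 = (α * β ^ 3) ^ 4 * β ^ 4 := by rw [h4, one_pow, one_mul]
    _ = α ^ 4 * β ^ 16 := by rw [mul_pow, ← pow_mul, mul_assoc, ← pow_add]
    _ = α ^ 4 := by rw [show (16 : ℕ) = 8 * 2 by norm_num, pow_mul, C.unit_pow_eight, one_pow,
        mul_one]

/-- The first power of an injective character of the eigenvalue does not agree. -/
theorem not_agree (ψ : Fˣ →* ℂˣ) (hψ : Function.Injective ψ) {x : SU 3 F 3} {c : F}
    (hc0 : c ≠ 0) (hx : mat x *ᵥ C.a = c • C.b) :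
    ¬ TwoTrans.Agree C.H (ψ.comp (eigHom _ C.a_ne_zero)) x := by
  intro hA
  obtain ⟨g, hg⟩ := exists_witness C.card H79.UThree.u8_1 H79.UThree.witness_det.2.1
    H79.UThree.witness_unitary.2.1 C.ι
  have hga : Eig g C.a (C.ι ⟨2, 1⟩) := by
    rw [Eig, hg, C.ha]
    funext i
    rw [RingHom.mapMatrix_apply, show (H79.UThree.u8_1.map C.ι *ᵥ (C.ι ∘ ![⟨1, 0⟩, ⟨0, 0⟩, ⟨2, 1⟩])) i =
      C.ι ((H79.UThree.u8_1 *ᵥ ![⟨1, 0⟩, ⟨0, 0⟩, ⟨2, 1⟩]) i) from (RingHom.map_mulVec C.ι _ _ i).symm]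
    simp only [Pi.smul_apply, smul_eq_mul, Function.comp_apply, ← map_mul]
    congr 1
    revert i
    decide +kernel
  have hgb : Eig g C.b (C.ι ⟨1, 2⟩) := by
    rw [Eig, hg, C.hb]
    funext i
    rw [RingHom.mapMatrix_apply, show (H79.UThree.u8_1.map C.ι *ᵥ (C.ι ∘ ![⟨1, 0⟩, ⟨0, 0⟩, ⟨1, 2⟩])) i =
      C.ι ((H79.UThree.u8_1 *ᵥ ![⟨1, 0⟩, ⟨0, 0⟩, ⟨1, 2⟩]) i) from (RingHom.map_mulVec C.ι _ _ i).symm]
    simp only [Pi.smul_apply, smul_eq_mul, Function.comp_apply, ← map_mul]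
    congr 1
    revert i
    decide +kernel
  have hne : ∀ z : Nine, z ≠ 0 → C.ι z ≠ 0 := fun z hz h =>
    hz ((map_eq_zero_iff C.ι C.bij.1).1 h)
  have hmem : g ∈ C.H := ⟨_, hne _ (by decide +kernel), hga⟩
  have hconj : Eig (x⁻¹ * g * x) C.a (C.ι ⟨1, 2⟩) := by
    rw [Eig, map_mul, map_mul, ← mulVec_mulVec, hx, mulVec_smul, ← mulVec_mulVec, hgb, mulVec_smul]
    have h2 := congrArg (mat x⁻¹ *ᵥ ·) hx
    simp only [mulVec_mulVec, ← map_mul, inv_mul_cancel, map_one, one_mulVec, mulVec_smul] at h2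
    rw [smul_comm, ← h2]
  have hmem' : x⁻¹ * g * x ∈ C.H := ⟨_, hne _ (by decide +kernel), hconj⟩
  have h := hψ (hA ⟨g, hmem⟩ hmem')
  have e1 : eigVal (⟨g, hmem⟩ : C.H) = C.ι ⟨2, 1⟩ := eigVal_eq _ hga
  have e2 : eigVal (⟨_, hmem'⟩ : C.H) = C.ι ⟨1, 2⟩ := eigVal_eq _ hconj
  have h' := congrArg Units.val h
  rw [show (eigHom _ C.a_ne_zero ⟨_, hmem'⟩ : F) = _ from e2,
    show (eigHom _ C.a_ne_zero ⟨g, hmem⟩ : F) = _ from e1] at h'
  exact absurd (C.bij.1 h') (by decide +kernel)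

include C in
theorem exists_injective_char : ∃ ψ : Fˣ →* ℂˣ, Function.Injective ψ := by
  have hc : Nat.card Fˣ = 8 := by
    rw [Nat.card_units, Nat.card_eq_fintype_card, C.card]
  have hr : Nat.card (rootsOfUnity 8 ℂ) = 8 := Complex.card_rootsOfUnity 8
  exact ⟨(rootsOfUnity 8 ℂ).subtype.comp
    (mulEquivOfCyclicCardEq (hc.trans hr.symm)).toMonoidHom,
    Subtype.val_injective.comp (MulEquiv.injective _)⟩

end Config

end Cfsg.Agent.H38.UTT
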