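import Mathlib
import Cfsg.Agent.H38.UThreeThree.Borel
import Cfsg.Agent.H32.DefectOnePrincipal
import Cfsg.Agent.H42.MaxIdeal
import Cfsg.Agent.H44.Codegree

/-! The principal `7`-block of `SU(3, 3)`. -/

set_option autoImplicit false

namespace Cfsg.Agent.H38.UTT

open Cfsg
open scoped ComplexConjugate

/-- When every `p`-singular element generates a Sylow subgroup, characters of degree prime to `p`
lie in the principal block. -/
theorem mem_principal_of_not_dvd {G : Type*} [Group G] [Fintype G] {p : ℕ} [Fact p.Prime]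
    {M : Ideal AlgInt} (hM : IsPModular p M) (P : Sylow p G) (hP : Nat.card P = p)
    (hsing : ∀ g : G, p ∣ orderOf g → orderOf g = p) (χ : IrrCharacter G)
    (hd : ¬ p ∣ charDegree (χ : G → ℂ)) : χ ∈ principalBlock M G := by
  classical
  haveI := hM.2.1
  by_contra hne
  have hne' : ¬ SameBlock M (χ : G → ℂ) ((H26.oneIrr G : IrrCharacter G) : G → ℂ) := fun h =>
    hne (show SameBlock M (fun _ : G => (1 : ℂ)) (χ : G → ℂ) from H41.sameBlock_symm h)
  have hχ1 : χ ≠ H26.oneIrr G := fun h => hne' (h ▸ H41.sameBlock_refl _)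
  have hall : ∑ x : G, χ.1 x = 0 := by
    have := H26.classInner_irr χ (H26.oneIrr G)
    rw [if_neg hχ1, classInner, mul_eq_zero] at this
    rcases this with h0 | h0
    · simp at h0
    · simpa [H26.oneIrr_val] using h0
  have hreg := H41.sum_regular_mul_conj_eq_zero hM hne'
  simp only [H26.oneIrr_val, map_one, mul_one] at hreg
  set S : Finset G := Finset.univ.filter fun x : G => p ∣ orderOf x with hS
  have hsum : ∑ x ∈ S, χ.1 x = 0 := by
    rw [← Finset.sum_filter_add_sum_filter_not Finset.univ (fun x : G => p ∣ orderOf x)] at hall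
    simpa [hreg] using hall
  -- count pairs
  set P0 : Finset G := Finset.univ.filter fun x : G => x ∈ (P : Subgroup G) ∧ x ≠ 1 with hP0
  have hmem : ∀ {g : G}, p ∣ orderOf g → ∀ {x : G}, x ∈ (P : Subgroup G) → x ≠ 1 → ∀ {y : G},
      y * x * y⁻¹ = g → Subgroup.zpowers g = (P : Subgroup G).map (MulAut.conj y).toMonoidHom := by
    intro g hg x hx hx1 y hy
    refine Subgroup.eq_of_le_of_card_ge (Subgroup.zpowers_le.mpr ⟨x, hx, by simpa using hy⟩) ?_
    rw [Subgroup.card_map_of_injective (MulEquiv.injective _), Nat.card_zpowers, hsing g hg]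
    exact hP.le
  have hfib : ∀ g ∈ S, (((Finset.univ : Finset G) ×ˢ P0).filter fun z => z.1 * z.2 * z.1⁻¹ = g).card =
      Nat.card (Subgroup.normalizer ((P : Subgroup G) : Set G)) := by
    intro g hg
    have hg' := (Finset.mem_filter.mp hg).2
    obtain ⟨Q, hQ⟩ := (IsPGroup.of_card (p := p) (n := 1) (G := Subgroup.zpowers g)
      (by rw [Nat.card_zpowers, hsing g hg', pow_one])).exists_le_sylow
    obtain ⟨y₀, hy₀⟩ := MulAction.exists_smul_eq G P Q
    have hgQ : g ∈ ((y₀ • P : Sylow p G) : Subgroup G) := hy₀ ▸ hQ (Subgroup.mem_zpowers g)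
    rw [Sylow.coe_subgroup_smul, Subgroup.mem_pointwise_smul_iff_inv_smul_mem] at hgQ
    set x₀ := y₀⁻¹ * g * y₀ with hx₀
    have hx₀P : x₀ ∈ (P : Subgroup G) := by simpa [hx₀, MulAut.smul_def, mul_assoc] using hgQ
    have hg1 : g ≠ 1 := fun h => by
      rw [h, orderOf_one] at hg'; exact (Fact.out : p.Prime).ne_one (Nat.dvd_one.mp hg')
    have hx₀1 : x₀ ≠ 1 := fun h => hg1 (by
      have := congrArg (fun t => y₀ * t * y₀⁻¹) h; simpa [hx₀, mul_assoc] using this)
    rw [Nat.card_eq_fintype_card, ← Finset.card_univ]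
    refine (Finset.card_bij (fun (n : Subgroup.normalizer ((P : Subgroup G) : Set G)) _ =>
      (y₀ * (n : G), (n : G)⁻¹ * x₀ * n)) ?_ ?_ ?_).symm
    · intro n _
      refine Finset.mem_filter.mpr ⟨Finset.mem_product.mpr ⟨Finset.mem_univ _,
        Finset.mem_filter.mpr ⟨Finset.mem_univ _, ?_, ?_⟩⟩, ?_⟩
      · simpa using (Subgroup.mem_normalizer_iff.mp ((Subgroup.normalizer _).inv_mem n.2) x₀).mp hx₀P
      · intro h
        apply hx₀1
        have := congrArg (fun t => (n : G) * t * (n : G)⁻¹) h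
        simpa [mul_assoc] using this
      · simp only [hx₀]; group
    · intro a _ b _ h
      exact Subtype.ext (mul_left_cancel (congrArg Prod.fst h))
    · rintro ⟨y, x⟩ hz
      obtain ⟨hz1, hz2⟩ := Finset.mem_filter.mp hz
      obtain ⟨hxP, hx1⟩ := (Finset.mem_filter.mp (Finset.mem_product.mp hz1).2).2
      simp only at hz2
      have e1 := hmem hg' hxP hx1 hz2
      have e2 := hmem hg' hx₀P hx₀1 (show y₀ * x₀ * y₀⁻¹ = g by rw [hx₀]; group)
      have hn : y₀⁻¹ * y ∈ Subgroup.normalizer ((P : Subgroup G) : Set G) := by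
        rw [Subgroup.mem_normalizer_iff_map_conj_eq, map_mul]
        have h3 : (P : Subgroup G).map ((MulAut.conj y₀⁻¹).toMonoidHom.comp (MulAut.conj y).toMonoidHom) =
            (P : Subgroup G) := by
          rw [← Subgroup.map_map, ← e1, e2, Subgroup.map_map]
          ext t
          simp [mul_assoc]
        exact h3
      refine ⟨⟨_, hn⟩, Finset.mem_univ _, Prod.ext (by simp) ?_⟩
      simp only [hx₀, ← hz2]
      group
  have hmaps : ∀ z ∈ ((Finset.univ : Finset G) ×ˢ P0), z.1 * z.2 * z.1⁻¹ ∈ S := by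
    intro z hz
    obtain ⟨hxP, hx1⟩ := (Finset.mem_filter.mp (Finset.mem_product.mp hz).2).2
    refine Finset.mem_filter.mpr ⟨Finset.mem_univ _, ?_⟩
    rw [← MulAut.conj_apply, MulEquiv.orderOf_eq]
    have hd : orderOf z.2 ∣ p := hP ▸ (Subgroup.orderOf_dvd_natCard _ hxP)
    rcases (Nat.dvd_prime Fact.out).mp hd with h | h
    · exact absurd (orderOf_eq_one_iff.mp h) hx1
    · exact h ▸ dvd_rfl
  have h2 : (Nat.card G : ℂ) * ∑ x ∈ P0, χ.1 x = 0 := by
    have h3 : ∑ z ∈ ((Finset.univ : Finset G) ×ˢ P0), χ.1 (z.1 * z.2 * z.1⁻¹) =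
        (Nat.card G : ℂ) * ∑ x ∈ P0, χ.1 x := by
      rw [Finset.sum_product, Finset.sum_congr rfl fun y _ => Finset.sum_congr rfl fun x _ =>
        H26.irr_conj χ x y, Finset.sum_const, nsmul_eq_mul, Finset.card_univ,
        Nat.card_eq_fintype_card]
    rw [← h3, ← Finset.sum_fiberwise_of_maps_to hmaps]
    calc _ = ∑ g ∈ S, (Nat.card (Subgroup.normalizer ((P : Subgroup G) : Set G)) : ℂ) * χ.1 g := by
          refine Finset.sum_congr rfl fun g hg => ?_
          rw [Finset.sum_congr rfl fun z hz => congrArg χ.1 (Finset.mem_filter.mp hz).2,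
            Finset.sum_const, hfib g hg, nsmul_eq_mul]
      _ = 0 := by rw [← Finset.mul_sum, hsum, mul_zero]
  have h4 : ∑ x ∈ P0, χ.1 x = 0 := (mul_eq_zero.mp h2).resolve_left (Nat.cast_ne_zero.mpr Nat.card_pos.ne')
  haveI : Fintype (P : Subgroup G) := Fintype.ofFinite _
  obtain ⟨m, hm⟩ := H68.exists_nat_classInner
    (H26.isCharacter_comp (H26.irr_isCharacter χ) (P : Subgroup G).subtype) (H26.oneIrr _)
  have h5 : ∑ x : (P : Subgroup G), χ.1 x = (p : ℂ) * m := by
    rw [← hm, classInner, show Nat.card (P : Subgroup G) = p from hP, ← mul_assoc,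
      mul_inv_cancel₀ (Nat.cast_ne_zero.mpr (Fact.out : p.Prime).ne_zero), one_mul]
    simp [H26.oneIrr_val]
  have h6 : ∑ x : (P : Subgroup G), χ.1 x = χ.1 1 := by
    rw [← Finset.sum_subtype (Finset.univ.filter fun x : G => x ∈ (P : Subgroup G)) (by simp) (fun x : G => χ.1 x),
      ← Finset.add_sum_erase _ _ (show (1 : G) ∈ Finset.univ.filter fun x : G => x ∈ (P : Subgroup G) by simp),
      show (Finset.univ.filter fun x : G => x ∈ (P : Subgroup G)).erase 1 = P0 by ext x; simp [hP0, and_comm],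
      h4, add_zero]
  apply hd
  refine ⟨m, ?_⟩
  have := h6.symm.trans h5
  rw [← H44.cast_charDegree] at this
  exact_mod_cast this

variable {F : Type*} [Field F] [Fintype F]

/-- The centre of `SU(3, 3)` is trivial. -/
noncomputable def equivPSU (hF : Fintype.card F = 9) : SU 3 F 3 ≃* PSU 3 F 3 :=
  QuotientGroup.quotientBot.symm.trans (QuotientGroup.quotientMulEquivOfEq
    ((Subgroup.eq_bot_of_card_eq _ (by
      rw [H3.card_center_SU (card_sq hF) (by norm_num)]; norm_num)).symm))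

theorem orderOf_mem (hF : Fintype.card F = 9) (g : SU 3 F 3) :
    orderOf g ∈ [1, 2, 3, 4, 6, 7, 8, 12] := by
  have h : orderOf (equivPSU hF g) ∈ Set.range (orderOf : PSU 3 F 3 → ℕ) := ⟨_, rfl⟩
  rw [H79.UThree.psu_three_three_spectrum hF, MulEquiv.orderOf_eq] at h
  exact h

/-- The principal `7`-block data. -/
structure SevenData (G : Type*) [Group G] where
  X : Set (IrrCharacter G)
  Y : Set (IrrCharacter G)
  disj : Disjoint X Y
  cardX : Nat.card X = 3
  cardY : Nat.card Y = 2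
  εX : IrrCharacter G → ℤ
  ε : ℤ
  hεX : ∀ χ ∈ X, (εX χ = 1 ∨ εX χ = -1) ∧ (charDegree (χ : G → ℂ) : ℤ) ≡ εX χ [ZMOD 7]
  hε : ε = 1 ∨ ε = -1
  congY : ∀ θ ∈ Y, (charDegree (θ : G → ℂ) : ℤ) ≡ ε * 3 [ZMOD 7]
  eqY : ∀ θ ∈ Y, ∀ θ' ∈ Y, charDegree (θ : G → ℂ) = charDegree (θ' : G → ℂ)
  eqn : ∀ θ ∈ Y, ε * (charDegree (θ : G → ℂ) : ℤ) = ∑ᶠ χ ∈ X, εX χ * (charDegree (χ : G → ℂ) : ℤ)
  cover : ∀ χ : IrrCharacter G, ¬ 7 ∣ charDegree (χ : G → ℂ) → χ ∈ X ∨ χ ∈ Y

theorem exists_sevenData (hF : Fintype.card F = 9) [Fintype (SU 3 F 3)] :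
    Nonempty (SevenData (SU 3 F 3)) := by
  classical
  haveI : Fact (Nat.Prime 7) := ⟨by norm_num⟩
  obtain ⟨M, hM⟩ := H42.exists_isPModular (p := 7) (by norm_num)
  obtain ⟨P⟩ := (inferInstance : Nonempty (Sylow 7 (SU 3 F 3)))
  have hG := card_SU_three hF
  have hP : Nat.card P = 7 := by
    rw [P.card_eq_multiplicity, hG]
    have : (6048 : ℕ).factorization 7 = 1 := by
      rw [show (6048 : ℕ) = 7 * 864 by norm_num, Nat.factorization_mul (by norm_num) (by norm_num),
        Finsupp.add_apply, Nat.Prime.factorization_self (by norm_num),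
        Nat.factorization_eq_zero_of_not_dvd (by norm_num)]
    rw [this, pow_one]
  have hsing : ∀ g : SU 3 F 3, 7 ∣ orderOf g → orderOf g = 7 := by
    intro g hg
    have := orderOf_mem hF g
    simp only [List.mem_cons, List.not_mem_nil, or_false] at this
    omega
  haveI : IsCyclic (P : Subgroup (SU 3 F 3)) := isCyclic_of_prime_card hP
  obtain ⟨z, hz⟩ := IsCyclic.exists_generator (α := (P : Subgroup (SU 3 F 3)))
  have hz7 : orderOf (z : SU 3 F 3) = 7 := by
    rw [Subgroup.orderOf_coe, orderOf_eq_card_of_forall_mem_zpowers hz, hP]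
  have hC : Subgroup.centralizer ((P : Subgroup (SU 3 F 3)) : Set (SU 3 F 3)) =
      (P : Subgroup (SU 3 F 3)) := by
    refine le_antisymm (fun c hc => ?_) fun c hc d hd => by
      letI : CommGroup (P : Subgroup (SU 3 F 3)) := IsCyclic.commGroup
      exact congrArg Subtype.val (mul_comm (⟨d, hd⟩ : (P : Subgroup (SU 3 F 3))) ⟨c, hc⟩)
    have hcz : Commute (z : SU 3 F 3) c := hc z z.2
    by_cases h7 : 7 ∣ orderOf c
    · have hQ : IsPGroup 7 (Subgroup.zpowers c) :=
        IsPGroup.of_card (n := 1) (by rw [Nat.card_zpowers, hsing c h7, pow_one])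
      have hn : Subgroup.zpowers c ≤ Subgroup.normalizer ((P : Subgroup (SU 3 F 3)) : Set (SU 3 F 3)) :=
        Subgroup.zpowers_le.mpr (Subgroup.centralizer_le_normalizer _ hc)
      have hsup := P.isPGroup'.to_sup_of_normal_left' hQ hn
      have := P.is_maximal' hsup le_sup_left
      exact this ▸ (le_sup_right : Subgroup.zpowers c ≤ _) (Subgroup.mem_zpowers c)
    · have h := hcz.orderOf_mul_eq_mul_orderOf_of_coprime (by
        rw [hz7]; exact (Nat.Prime.coprime_iff_not_dvd (by norm_num)).mpr h7)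
      have := orderOf_mem hF ((z : SU 3 F 3) * c)
      rw [h, hz7] at this
      have hc1 : orderOf c = 1 := by
        have := orderOf_pos c
        simp only [List.mem_cons, List.not_mem_nil, or_false] at *
        omega
      rw [orderOf_eq_one_iff.mp hc1]
      exact one_mem _
  set e := (Subgroup.centralizer ((P : Subgroup (SU 3 F 3)) : Set (SU 3 F 3))).relIndex
    (Subgroup.normalizer ((P : Subgroup (SU 3 F 3)) : Set (SU 3 F 3))) with he
  have he3 : e = 3 := by
    have hdvd : e ∣ 6 := by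
      have h1 : e = Nat.card (Subgroup.normalizerMonoidHom (P : Subgroup (SU 3 F 3))).range := by
        rw [← Subgroup.index_ker, Subgroup.normalizerMonoidHom_ker, he, Subgroup.relIndex]
      rw [h1]
      refine (Subgroup.card_subgroup_dvd_card _).trans (dvd_of_eq ?_)
      rw [IsCyclic.card_mulAut, hP]
      decide
    have hn := card_sylow_modEq_one 7 (SU 3 F 3)
    have h2 := (Subgroup.normalizer ((P : Subgroup (SU 3 F 3)) : Set (SU 3 F 3))).card_mul_index
    have h3 : Nat.card (Subgroup.normalizer ((P : Subgroup (SU 3 F 3)) : Set (SU 3 F 3))) = 7 * e := by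
      rw [he, hC, Subgroup.relIndex, show ∀ i : ℕ, 7 * i = Nat.card (P : Subgroup (SU 3 F 3)) * i from
        fun i => by rw [hP], ← ((P : Subgroup (SU 3 F 3)).subgroupOf
        (Subgroup.normalizer ((P : Subgroup (SU 3 F 3)) : Set (SU 3 F 3)))).card_mul_index]
      congr 1
      exact Nat.card_congr (Subgroup.subgroupOfEquivOfLe Subgroup.le_normalizer).toEquiv
    have h4 : Nat.card (Sylow 7 (SU 3 F 3)) =
        (Subgroup.normalizer ((P : Subgroup (SU 3 F 3)) : Set (SU 3 F 3))).index :=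
      P.card_eq_index_normalizer
    rw [h3, ← h4, hG] at h2
    unfold Nat.ModEq at hn
    have hmem : e ∈ Nat.divisors 6 := Nat.mem_divisors.mpr ⟨hdvd, by norm_num⟩
    rw [show Nat.divisors 6 = ({1, 2, 3, 6} : Finset ℕ) by decide] at hmem
    simp only [Finset.mem_insert, Finset.mem_singleton] at hmem
    rcases hmem with h | h | h | h <;> rw [h] at h2 <;> omega
  obtain ⟨X, Y, hBXY, hdisj, hX, hY, εX, ε, hεX, hε, hcY, hregY, heq⟩ :=
    H32.sylow_prime_principal hM P hP e rfl
  rw [he3] at hX hY hcY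
  have hone : ¬ 7 ∣ orderOf (1 : SU 3 F 3) := by rw [orderOf_one]; norm_num
  refine ⟨⟨X, Y, hdisj, hX, by simpa using hY, εX, ε, fun χ hχ => ⟨(hεX χ hχ).1, by exact_mod_cast (hεX χ hχ).2.1⟩,
    hε, fun θ hθ => by exact_mod_cast hcY θ hθ, ?_, ?_, fun χ hχ => ?_⟩⟩
  · intro θ hθ θ' hθ'
    have := hregY θ hθ θ' hθ' 1 hone
    rw [← H44.cast_charDegree, ← H44.cast_charDegree] at this
    exact_mod_cast this
  · intro θ hθ
    have h := heq θ hθ 1 hone
    simp only [← H44.cast_charDegree] at h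
    rw [finsum_mem_eq_finite_toFinset_sum _ (Set.toFinite _)] at h ⊢
    exact_mod_cast h
  · have := mem_principal_of_not_dvd hM P hP hsing χ hχ
    rwa [hBXY] at this

end Cfsg.Agent.H38.UTT
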