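import Mathlib
import Cfsg.Agent.H38.UThreeThree.Borel

/-! Explicit elements of `SU(3, 3)` for the degree computation. -/

set_option autoImplicit false
set_option maxRecDepth 10000

namespace Cfsg.Agent.H38.UTT

open Cfsg Matrix
open Cfsg.Agent.H79.UThree (Nine u12_1 u12_2 u12_4 u8_1)

/-- An element inverting `u12_4`. -/
def wInv : Matrix (Fin 3) (Fin 3) Nine :=
  !![⟨0, 1⟩, ⟨2, 1⟩, ⟨0, 1⟩; ⟨0, 2⟩, ⟨2, 1⟩, ⟨0, 2⟩; ⟨2, 1⟩, ⟨0, 0⟩, ⟨1, 2⟩]

theorem wInv_det : wInv.det = 1 := by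
  rw [Matrix.det_fin_three]
  decide +kernel

theorem wInv_unitary : wInvᵀ * wInv.map (· ^ 3) = 1 := by decide +kernel

theorem u12_4_eq : u12_1 * u12_1 * (u12_1 * u12_1) = u12_4 := by decide +kernel

theorem u12_4_cube : u12_4 * u12_4 * u12_4 = 1 := by decide +kernel

theorem u12_4_ne_one : u12_4 ≠ 1 := by decide +kernel

theorem wInv_conj : wInv * u12_4 = u12_4 * u12_4 * wInv := by decide +kernel

theorem u8_1_eigen : ∀ i : Fin 3, (u8_1 *ᵥ ![⟨1, 0⟩, ⟨0, 0⟩, ⟨2, 1⟩]) i =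
    (⟨2, 1⟩ : Nine) * (![⟨1, 0⟩, ⟨0, 0⟩, ⟨2, 1⟩] : Fin 3 → Nine) i := by decide +kernel

theorem eight_pow_four : ¬ (⟨2, 1⟩ : Nine) ^ 4 = 1 := by decide +kernel

variable {F : Type*} [Field F] [Fintype F]

open H79.UThree in
theorem Config.exists_inverted_three (C : Config F) :
    ∃ t w : SU 3 F 3, t ^ 3 = 1 ∧ t ≠ 1 ∧ w * t * w⁻¹ = t⁻¹ := by
  obtain ⟨z, hz⟩ := exists_witness C.card u12_1 witness_det.2.2 witness_unitary.2.2 C.ι
  obtain ⟨w, hw⟩ := exists_witness C.card wInv wInv_det wInv_unitary C.ι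
  have ht : mat (z * z * (z * z)) = C.ι.mapMatrix u12_4 := by
    rw [map_mul, map_mul, hz, ← map_mul, ← map_mul, u12_4_eq]
  set t := z * z * (z * z)
  have h3 : t * t * t = 1 := mat_injective (by
    rw [map_mul, map_mul, ht, ← map_mul, ← map_mul, u12_4_cube, map_one, map_one])
  refine ⟨t, w, by rw [pow_succ, pow_two, h3], fun h => ?_, ?_⟩
  · rw [h, map_one, ← map_one C.ι.mapMatrix] at ht
    exact u12_4_ne_one (Matrix.map_injective C.bij.1 ht).symm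
  · rw [← eq_inv_of_mul_eq_one_left h3, mul_inv_eq_iff_eq_mul]
    apply mat_injective
    simp only [map_mul, hw, ht]
    rw [← map_mul, ← map_mul, ← map_mul, wInv_conj]

open H79.UThree in
theorem Config.exists_eight (C : Config F) :
    ∃ g : C.H, (eigHom _ C.a_ne_zero g : F) = C.ι ⟨2, 1⟩ := by
  obtain ⟨g, hg⟩ := exists_witness C.card u8_1 witness_det.2.1 witness_unitary.2.1 C.ι
  have hga : Eig g C.a (C.ι ⟨2, 1⟩) := by
    rw [Eig, hg, C.ha]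
    funext i
    rw [RingHom.mapMatrix_apply, show (u8_1.map C.ι *ᵥ (C.ι ∘ ![⟨1, 0⟩, ⟨0, 0⟩, ⟨2, 1⟩])) i =
      C.ι ((u8_1 *ᵥ ![⟨1, 0⟩, ⟨0, 0⟩, ⟨2, 1⟩]) i) from (RingHom.map_mulVec C.ι _ _ i).symm]
    simp only [Pi.smul_apply, smul_eq_mul, Function.comp_apply, ← map_mul, u8_1_eigen]
  exact ⟨⟨g, _, fun h0 => absurd ((map_eq_zero_iff C.ι C.bij.1).1 h0) (by decide +kernel), hga⟩,
    eigVal_eq _ hga⟩

end Cfsg.Agent.H38.UTT
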