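import Mathlib
import Cfsg.Agent.H38.UThreeThree.SevenBlock
import Cfsg.Agent.H38.UThreeThree.Witness
import Cfsg.Agent.H38.RealOdd.Tools
import Cfsg.Agent.H44.OrbitSums

/-! Degrees of `SU(3, 3)`: for any two of the primes `2, 3, 7` some degree is divisible by both. -/

set_option autoImplicit false
set_option maxRecDepth 10000
set_option maxHeartbeats 600000

namespace Cfsg.Agent.H38.UTT

open Cfsg Matrix
open scoped ComplexConjugate

variable {F : Type*} [Field F] [Fintype F]

/-- An irreducible character of a perfect group of degree one is trivial. -/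
theorem eq_oneIrr_of_degree_one {G : Type*} [Group G] [Finite G] (h : commutator G = ⊤)
    (χ : IrrCharacter G) (hd : charDegree (χ : G → ℂ) = 1) : χ = H26.oneIrr G := by
  obtain ⟨f, hf⟩ := exists_hom_of_linear (H26.irr_isCharacter χ)
    (by rw [← H44.cast_charDegree, hd, Nat.cast_one])
  have hk : f.ker = ⊤ := top_le_iff.mp (h ▸ Abelianization.commutator_subset_ker f)
  refine Subtype.ext (funext fun g => ?_)
  rw [hf, H26.oneIrr_val]
  show (f g : ℂ) = 1
  rw [show f g = 1 from (hk.symm ▸ Subgroup.mem_top g : g ∈ f.ker), Units.val_one]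

/-- A real irreducible character meeting the trivial character of an odd subgroup once has odd
degree. -/
theorem odd_degree_of_mult_one {G : Type*} [Group G] [Fintype G] (U : Subgroup G) [Fintype U]
    (hU : Odd (Nat.card U)) (χ : IrrCharacter G) (hreal : ∀ g, (χ.1 g).im = 0)
    (hm : classInner (fun u : U => χ.1 u) (fun _ => (1 : ℂ)) = 1) :
    Odd (charDegree (χ : G → ℂ)) := by
  by_contra hev
  rw [Nat.not_odd_iff_even] at hev
  set θ : U → ℂ := fun u => χ.1 u with hθ
  have hθc : IsCharacter U θ := H26.isCharacter_comp (H26.irr_isCharacter χ) U.subtype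
  have hone : (fun _ : U => (1 : ℂ)) = (H26.oneIrr U).1 := rfl
  rw [hone] at hm
  obtain ⟨φ, hφ, he⟩ := H68.exists_eq_add_of_classInner_ne_zero hθc (H26.oneIrr U)
    (by rw [hm]; exact one_ne_zero)
  have hpos := H44.charDegree_pos χ
  have h1 : φ 1 = ((charDegree (χ : G → ℂ) - 1 : ℕ) : ℂ) := by
    have := congrFun he 1
    simp only [hθ, Pi.add_apply, H26.oneIrr_val, OneMemClass.coe_one] at this
    rw [Nat.cast_sub (by omega), H44.cast_charDegree, this]
    simp
  obtain ⟨k, hk⟩ := hev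
  obtain ⟨ψ, hψr, -, j, hj, hψ⟩ := (RealOdd.exists_odd_constituent hφ
    (n := charDegree (χ : G → ℂ) - 1) ⟨k - 1, by omega⟩ h1).2 fun u => by
      have := congrFun he u
      simp only [hθ, Pi.add_apply, H26.oneIrr_val] at this
      have h2 := congrArg Complex.im this
      simp [hreal] at h2
      linarith [h2]
  obtain rfl := H26.real_irr_eq_one_of_odd hU ψ hψr
  rw [he, H26.classInner_add_left, H26.classInner_irr, if_pos rfl, hψ] at hm
  have : ((1 + j : ℕ) : ℂ) = ((1 : ℕ) : ℂ) := by push_cast; exact hm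
  rw [Nat.cast_inj] at this
  obtain ⟨i, rfl⟩ := hj
  omega

namespace Config

variable (C : Config F) [Fintype (SU 3 F 3)]
include C

open scoped Classical in
/-- A split of an induced linear character, with the degrees adding up to twenty-eight. -/
theorem exists_sum_degrees (f : C.H →* ℂˣ) {x : SU 3 F 3} (hx : x ∉ C.H)
    (hA : TwoTrans.Agree C.H f x) :
    ∃ χ₁ χ₂ : IrrCharacter (SU 3 F 3), χ₁ ≠ χ₂ ∧
      (indFun C.H fun h => (f h : ℂ)) = χ₁.1 + χ₂.1 ∧
      charDegree (χ₁ : SU 3 F 3 → ℂ) + charDegree (χ₂ : SU 3 F 3 → ℂ) = 28 ∧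
      classInner (fun h : C.H => χ₁.1 h) (fun h => (f h : ℂ)) = 1 ∧
      classInner (fun h : C.H => χ₂.1 h) (fun h => (f h : ℂ)) = 1 := by
  obtain ⟨χ₁, χ₂, hne, he, h1, h2⟩ := TwoTrans.exists_split C.two f hx hA
  refine ⟨χ₁, χ₂, hne, he, ?_, h1, h2⟩
  have h := congrFun he 1
  rw [H25.indFun_one, C.index_H, map_one, Units.val_one, mul_one, Pi.add_apply,
    ← H44.cast_charDegree, ← H44.cast_charDegree] at h
  exact_mod_cast h.symm

theorem exists_twentyseven : ∃ χ : IrrCharacter (SU 3 F 3), χ ≠ H26.oneIrr _ ∧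
    charDegree (χ : SU 3 F 3 → ℂ) = 27 := by
  classical
  obtain ⟨x, hx, -⟩ := C.exists_outside
  obtain ⟨χ₁, χ₂, hne, he, hsum, -, -⟩ := C.exists_sum_degrees 1 hx (fun _ _ => rfl)
  have h1 : classInner (indFun C.H fun h => ((1 : C.H →* ℂˣ) h : ℂ))
      (H26.oneIrr (SU 3 F 3)).1 = 1 := by
    rw [H25.classInner_indFun_left C.H _ _ (fun g h => H26.irr_conj _ g h)]
    simp only [MonoidHom.one_apply, Units.val_one]
    exact (H26.classInner_irr (H26.oneIrr C.H) (H26.oneIrr C.H)).trans (if_pos rfl)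
  rw [he, H26.classInner_add_left, H26.classInner_irr, H26.classInner_irr] at h1
  rcases eq_or_ne χ₁ (H26.oneIrr _) with rfl | h
  · exact ⟨χ₂, hne.symm, by rw [H44.charDegree_oneIrr] at hsum; omega⟩
  · rw [if_neg h, zero_add] at h1
    have h2 : χ₂ = H26.oneIrr _ := by
      by_contra h2
      rw [if_neg h2] at h1
      exact zero_ne_one h1
    subst h2
    exact ⟨χ₁, h, by rw [H44.charDegree_oneIrr] at hsum; omega⟩

theorem exists_twentyeight : ∃ χ : IrrCharacter (SU 3 F 3), charDegree (χ : SU 3 F 3 → ℂ) = 28 := by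
  classical
  obtain ⟨x, hx, c, hc0, hc⟩ := C.exists_outside
  obtain ⟨ψ, hψ⟩ := C.exists_injective_char
  let f : C.H →* ℂˣ := ψ.comp (eigHom _ C.a_ne_zero)
  have hirr := H68.isIrrCharacter_of_norm_one (H68.isCharacter_indFun_hom C.H f)
    ((TwoTrans.norm_indFun C.two f hx).2 (C.not_agree ψ hψ hc0 hc))
  refine ⟨⟨_, hirr⟩, ?_⟩
  have h1 : ((charDegree (indFun C.H fun h => (f h : ℂ)) : ℕ) : ℂ) = 28 := by
    rw [H44.cast_charDegree ⟨_, hirr⟩]
    show indFun C.H _ 1 = _
    rw [H25.indFun_one, C.index_H, map_one, Units.val_one, mul_one]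
    norm_num
  exact_mod_cast h1

/-- The degrees splitting twenty-eight are seven and twenty-one. -/
theorem exists_twentyone (D : SevenData (SU 3 F 3)) :
    ∃ χ : IrrCharacter (SU 3 F 3), charDegree (χ : SU 3 F 3 → ℂ) = 21 := by
  classical
  obtain ⟨x, hx, c, hc0, hc⟩ := C.exists_outside
  obtain ⟨ψ, hψ⟩ := C.exists_injective_char
  set e : C.H →* ℂˣ := ψ.comp (eigHom _ C.a_ne_zero) with he
  set f : C.H →* ℂˣ := (powMonoidHom 4).comp e with hf
  have hfe : ∀ k, f k = ψ (eigHom _ C.a_ne_zero k) ^ 4 := fun k => rfl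
  have hA : TwoTrans.Agree C.H f x := C.agree_of_pow f 4 dvd_rfl ψ hfe hc0 hc
  obtain ⟨χ₁, χ₂, hne, hInd, hsum, hm₁, hm₂⟩ := C.exists_sum_degrees f hx hA
  set a := charDegree (χ₁ : SU 3 F 3 → ℂ) with ha
  set b := charDegree (χ₂ : SU 3 F 3 → ℂ) with hb
  have hperf := H3.commutator_SU_eq_top (card_sq C.card) (n := 3) le_rfl (by norm_num)
  have hsq : ∀ k, f k ^ 2 = 1 := fun k => by
    rw [hfe, ← pow_mul, ← map_pow, C.unit_pow_eight, map_one]
  -- the inducing character is nontrivial, so neither constituent is trivial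
  by_contra hno
  push Not at hno
  have h21a : a ≠ 21 := hno χ₁
  have h21b : b ≠ 21 := hno χ₂
  -- a Sylow three-subgroup of the line stabiliser
  haveI : Fact (Nat.Prime 3) := ⟨by norm_num⟩
  obtain ⟨U⟩ := (inferInstance : Nonempty (Sylow 3 C.H))
  have hU : Nat.card U = 27 := by
    rw [U.card_eq_multiplicity, C.card_H]
    have : (216 : ℕ).factorization 3 = 3 := by
      rw [show (216 : ℕ) = 8 * 3 ^ 3 by norm_num, Nat.factorization_mul (by norm_num) (by norm_num),
        Finsupp.add_apply, Nat.factorization_pow, Finsupp.smul_apply,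
        Nat.Prime.factorization_self (by norm_num), Nat.factorization_eq_zero_of_not_dvd (by norm_num)]
      rfl
    rw [this]; norm_num
  have hfU : ∀ u : C.H, u ∈ (U : Subgroup C.H) → f u = 1 := by
    intro u hu
    have h1 : eigHom _ C.a_ne_zero u ^ 27 = 1 := by
      rw [← map_pow, ← hU]
      have : (⟨u, hu⟩ : (U : Subgroup C.H)) ^ Nat.card U = 1 := pow_card_eq_one'
      have h2 := congrArg Subtype.val this
      simp only [SubmonoidClass.coe_pow, OneMemClass.coe_one] at h2
      rw [h2, map_one]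
    have h3 : eigHom _ C.a_ne_zero u = 1 := by
      have h8 := C.unit_pow_eight (eigHom _ C.a_ne_zero u)
      have := pow_gcd_eq_one.2 ⟨h1, h8⟩
      norm_num at this
      exact this
    rw [hfe, h3, map_one, one_pow]
  have hval : ∀ u : C.H, u ∈ (U : Subgroup C.H) → u ≠ 1 →
      χ₁.1 (u : SU 3 F 3) + χ₂.1 (u : SU 3 F 3) = 1 := by
    intro u hu hu1
    have h := TwoTrans.indFun_eq_of_coprime f (u := u) (fun y hy => ?_) hu1
    · rw [hInd, hfU u hu, Units.val_one, Pi.add_apply] at h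
      exact h
    · have h2 := TwoTrans.card_inter_mul C.two hy
      rw [C.index_H, C.card_H] at h2
      have h8 : Nat.card (TwoTrans.inter C.H y) = 8 := by omega
      rw [h8]
      have hd : orderOf u ∣ 27 := hU ▸ Subgroup.orderOf_dvd_natCard _ hu
      exact Nat.Coprime.coprime_dvd_right hd (by norm_num)
  -- conjugation permutes the constituents
  have hfr : ∀ h : C.H, conj (f h : ℂ) = (f h : ℂ) := fun h =>
    Complex.conj_eq_iff_im.2 (RealOdd.linFun_im_eq_zero (fun k => hsq k) h)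
  have hconj : H26.conjIrr χ₁ = χ₁ ∨ H26.conjIrr χ₁ = χ₂ := by
    by_contra h
    push Not at h
    have h1 : classInner (indFun C.H fun h => (f h : ℂ)) (H26.conjIrr χ₁).1 = 0 := by
      rw [hInd, H26.classInner_add_left, H26.classInner_irr, H26.classInner_irr,
        if_neg (Ne.symm h.1), if_neg (Ne.symm h.2), add_zero]
    rw [H25.classInner_indFun_left C.H _ _ (fun g k => H26.irr_conj _ g k)] at h1
    have h2 := congrArg conj hm₁
    rw [RealOdd.classInner_conj_left, map_one] at h2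
    simp only [hfr] at h2
    have h3 : classInner (fun k : C.H => (H26.conjIrr χ₁).1 k) (fun k => (f k : ℂ)) = 1 := by
      simp only [H26.conjIrr_val]
      exact h2
    rw [← Complex.conj_conj (classInner (fun k : C.H => (f k : ℂ)) _)] at h1
    rw [show conj (classInner (fun k : C.H => (f k : ℂ)) (fun k : C.H => (H26.conjIrr χ₁).1 k)) =
      classInner (fun k : C.H => (H26.conjIrr χ₁).1 k) (fun k => (f k : ℂ)) by
        simp only [classInner, map_mul, map_inv₀, Complex.conj_natCast, map_sum, Complex.conj_conj]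
        congr 1
        exact Finset.sum_congr rfl fun k _ => mul_comm _ _, h3, map_one] at h1
    exact one_ne_zero h1
  obtain ⟨t, w, hz3⟩ := C.exists_inverted_three
  -- move it into the Sylow subgroup
  obtain ⟨y, u, huU, hu1, hyu⟩ : ∃ (y : SU 3 F 3) (u : C.H),
      u ∈ (U : Subgroup C.H) ∧ u ≠ 1 ∧ y * t * y⁻¹ = (u : SU 3 F 3) := by
    have hz4o : orderOf (t) = 3 := orderOf_eq_prime hz3.1 hz3.2.1
    obtain ⟨Q, hQ⟩ := (IsPGroup.of_card (p := 3) (n := 1) (G := Subgroup.zpowers (t))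
      (by rw [Nat.card_zpowers, hz4o, pow_one])).exists_le_sylow
    have hUG : Nat.card ((U : Subgroup C.H).map C.H.subtype) = 3 ^ (Nat.card (SU 3 F 3)).factorization 3 := by
      rw [Subgroup.card_map_of_injective C.H.subtype_injective, hU, card_SU_three C.card]
      have : (6048 : ℕ).factorization 3 = 3 := by
        rw [show (6048 : ℕ) = 224 * 3 ^ 3 by norm_num, Nat.factorization_mul (by norm_num) (by norm_num),
          Finsupp.add_apply, Nat.factorization_pow, Finsupp.smul_apply,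
          Nat.Prime.factorization_self (by norm_num), Nat.factorization_eq_zero_of_not_dvd (by norm_num)]
        rfl
      rw [this]; norm_num
    obtain ⟨y, hy⟩ := MulAction.exists_smul_eq (SU 3 F 3) Q (Sylow.ofCard _ hUG)
    have h1 : y * t * y⁻¹ ∈ ((y • Q : Sylow 3 (SU 3 F 3)) : Subgroup (SU 3 F 3)) := by
      rw [Sylow.coe_subgroup_smul, Subgroup.mem_pointwise_smul_iff_inv_smul_mem]
      simpa [MulAut.smul_def, mul_assoc] using hQ (Subgroup.mem_zpowers (t))
    rw [hy, Sylow.coe_ofCard] at h1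
    obtain ⟨u, huU, hu⟩ := h1
    refine ⟨y, u, huU, ?_, hu.symm⟩
    rintro rfl
    simp only [map_one] at hu
    exact hz3.2.1 (by
      have := congrArg (fun t => y⁻¹ * t * y) hu
      simpa [mul_assoc] using this.symm)
  have hsum1 : χ₁.1 (t) + χ₂.1 (t) = 1 := by
    have := hval u huU hu1
    rwa [← hyu, H26.irr_conj, H26.irr_conj] at this
  have hfix : H26.conjIrr χ₁ = χ₁ := by
    refine hconj.resolve_right fun h => ?_
    have h2 : χ₂.1 (t) = χ₁.1 (t) := by
      rw [← h, H26.conjIrr_val, ← H26.irr_inv, ← hz3.2.2, H26.irr_conj]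
    rw [h2, ← two_mul] at hsum1
    have hint : IsIntegral ℤ (χ₁.1 (t)) := H44.isIntegral_irr χ₁ _
    rw [show χ₁.1 (t) = ((2⁻¹ : ℚ) : ℂ) by push_cast; linear_combination (1 / 2 : ℂ) * hsum1] at hint
    obtain ⟨n, hn⟩ := IsIntegrallyClosed.isIntegral_iff.mp
      ((isIntegral_algHom_iff (Algebra.algHom ℤ ℚ ℂ) (algebraMap ℚ ℂ).injective).mp (by exact hint))
    have : (2 : ℚ) * n = 1 := by rw [show (n : ℚ) = 2⁻¹ from hn]; norm_num
    have : (2 : ℤ) * n = 1 := by exact_mod_cast this
    omega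
  have hreal₁ := (H26.conjIrr_eq_self_iff χ₁).mp hfix
  have hreal₂ : ∀ g, (χ₂.1 g).im = 0 := by
    intro g
    have h := congrFun hInd g
    have h1 : (indFun C.H (fun h => (f h : ℂ)) g).im = 0 := by
      rw [← Complex.conj_eq_iff_im]
      simp only [indFun, map_mul, map_inv₀, Complex.conj_natCast, map_sum]
      congr 1
      refine Finset.sum_congr rfl fun t _ => ?_
      by_cases ht : t⁻¹ * g * t ∈ C.H
      · rw [H25.extendByZero_of_mem C.H _ ht, hfr]
      · rw [H25.extendByZero_of_notMem C.H _ ht, map_zero]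
    rw [h, Pi.add_apply, Complex.add_im, hreal₁ g, zero_add] at h1
    exact h1
  -- multiplicities on the Sylow subgroup
  set U' : Subgroup (SU 3 F 3) := (U : Subgroup C.H).map C.H.subtype with hU'
  have hU'c : Nat.card U' = 27 := by
    rw [Subgroup.card_map_of_injective C.H.subtype_injective, hU]
  haveI : Fintype U' := Fintype.ofFinite _
  have hmult : ∀ χ : IrrCharacter (SU 3 F 3), classInner (fun h : C.H => χ.1 h) (fun h => (f h : ℂ)) = 1 →
      ∃ m : ℕ, 1 ≤ m ∧ classInner (fun u : U' => χ.1 u) (fun _ => (1 : ℂ)) = m := by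
    intro χ hχ
    let j : U' →* C.H :=
      { toFun := fun u => ⟨u, Subgroup.map_subtype_le _ u.2⟩
        map_one' := rfl
        map_mul' := fun _ _ => rfl }
    have hj : ∀ u : U', j u ∈ (U : Subgroup C.H) := fun u => by
      obtain ⟨v, hv, hvu⟩ := u.2
      have : j u = v := Subtype.ext hvu.symm
      rw [this]; exact hv
    obtain ⟨m, hm⟩ := H68.exists_nat_classInner
      (H26.isCharacter_comp (H26.irr_isCharacter χ) U'.subtype) (H26.oneIrr U')
    refine ⟨m, ?_, hm⟩
    rcases Nat.eq_zero_or_pos m with rfl | hm0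
    · exfalso
      refine RealOdd.classInner_restrict_ne_zero j
        (H26.isCharacter_comp (H26.irr_isCharacter χ) C.H.subtype) (RealOdd.linIrr f)
        (H26.oneIrr U') ?_ ?_ (by exact hm.trans Nat.cast_zero)
      · exact ne_of_eq_of_ne hχ one_ne_zero
      have hres : (fun u : U' => (RealOdd.linIrr f).1 (j u)) = (H26.oneIrr U').1 := funext fun u => by
        show (f (j u) : ℂ) = 1
        rw [hfU _ (hj u), Units.val_one]
      rw [hres, H26.classInner_irr, if_pos rfl]
      exact one_ne_zero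
    · exact hm0
  obtain ⟨m₁, hm₁', hc₁⟩ := hmult χ₁ hm₁
  obtain ⟨m₂, hm₂', hc₂⟩ := hmult χ₂ hm₂
  have htot : m₁ + m₂ = 2 := by
    have h1 : (27 : ℂ) * ((m₁ : ℂ) + m₂) = ∑ v : U', (χ₁.1 v + χ₂.1 v) := by
      rw [← hc₁, ← hc₂, classInner, classInner, hU'c]
      simp only [map_one, mul_one, Finset.sum_add_distrib]
      push_cast
      ring
    rw [← Finset.add_sum_erase _ _ (Finset.mem_univ (1 : U')), Finset.sum_congr rfl fun (v : U') hv => show
      χ₁.1 (v : SU 3 F 3) + χ₂.1 (v : SU 3 F 3) = 1 by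
        obtain ⟨t, ht, htv⟩ := v.2
        rw [← htv]
        refine hval t ht fun h => Finset.ne_of_mem_erase hv (Subtype.ext ?_)
        rw [← htv, h]; rfl] at h1
    rw [Finset.sum_const, Finset.card_erase_of_mem (Finset.mem_univ _), Finset.card_univ,
      ← Nat.card_eq_fintype_card, hU'c, OneMemClass.coe_one, ← H44.cast_charDegree,
      ← H44.cast_charDegree] at h1
    norm_num at h1
    have h2 : (27 : ℕ) * (m₁ + m₂) = a + b + 26 := by exact_mod_cast h1
    omega
  have ho₁ : Odd a := odd_degree_of_mult_one U' (by rw [hU'c]; decide) χ₁ hreal₁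
    (by rw [hc₁, show m₁ = 1 by omega, Nat.cast_one])
  -- degrees prime to seven are restricted
  have hcong : ∀ χ : IrrCharacter (SU 3 F 3), ¬ 7 ∣ charDegree (χ : SU 3 F 3 → ℂ) →
      charDegree (χ : SU 3 F 3 → ℂ) % 7 ∈ ({1, 3, 4, 6} : Finset ℕ) := by
    intro χ hχ
    rcases D.cover χ hχ with h | h
    · obtain ⟨h1, h2⟩ := D.hεX χ h
      simp only [Finset.mem_insert, Finset.mem_singleton]
      unfold Int.ModEq at h2
      rcases h1 with h1 | h1 <;> rw [h1] at h2 <;> omega
    · have h2 := D.congY χ h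
      simp only [Finset.mem_insert, Finset.mem_singleton]
      unfold Int.ModEq at h2
      rcases D.hε with h1 | h1 <;> rw [h1] at h2 <;> omega
  have hda : a ∣ 6048 := card_SU_three C.card ▸ H44.charDegree_dvd_card χ₁
  have hdb : b ∣ 6048 := card_SU_three C.card ▸ H44.charDegree_dvd_card χ₂
  have hne1 : a ≠ 1 ∧ b ≠ 1 := by
    have key : ∀ χ : IrrCharacter (SU 3 F 3),
        classInner (fun h : C.H => χ.1 h) (fun h => (f h : ℂ)) = 1 →
          charDegree (χ : SU 3 F 3 → ℂ) ≠ 1 := by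
      intro χ hχ hd
      rw [eq_oneIrr_of_degree_one hperf χ hd] at hχ
      obtain ⟨g, hga⟩ := C.exists_eight
      have hg1 : f g ≠ 1 := by
        intro h4
        rw [hfe, ← map_pow] at h4
        have h5 := congrArg Units.val (hψ (h4.trans (map_one ψ).symm))
        rw [Units.val_pow_eq_pow_val, Units.val_one, hga, ← map_pow, ← map_one C.ι] at h5
        exact absurd (C.bij.1 h5) eight_pow_four
      have hne' : RealOdd.linIrr f ≠ H26.oneIrr C.H := fun h => hg1 (Units.ext (by
        have := congrFun (congrArg Subtype.val h) g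
        simpa [RealOdd.linIrr, RealOdd.linFun, H26.oneIrr_val] using this))
      have h0 := H26.classInner_irr (H26.oneIrr C.H) (RealOdd.linIrr f)
      rw [if_neg (Ne.symm hne')] at h0
      exact one_ne_zero (hχ.symm.trans (Eq.trans (by rfl) h0))
    exact ⟨key χ₁ hm₁, key χ₂ hm₂⟩
  have ha7 : ¬ 7 ∣ a → a % 7 ∈ ({1, 3, 4, 6} : Finset ℕ) := hcong χ₁
  have hb7 : ¬ 7 ∣ b → b % 7 ∈ ({1, 3, 4, 6} : Finset ℕ) := hcong χ₂
  have hlist : ∀ n ≤ 28, n ∣ 6048 → Odd n → n = 1 ∨ n = 3 ∨ n = 7 ∨ n = 9 ∨ n = 21 ∨ n = 27 := by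
    decide +kernel
  rcases hlist a (by omega) hda ho₁ with h | h | h | h | h | h
  · exact hne1.1 h
  · rw [show b = 25 by omega] at hdb; norm_num at hdb
  · exact h21b (by omega)
  · rw [show b = 19 by omega] at hdb; norm_num at hdb
  · exact h21a h
  · exact hne1.2 (by omega)

end Config

set_option synthInstance.maxSize 2000 in
theorem six_table : ∀ X : ℕ, X < 78 → X ∣ 6048 → X ≠ 1 → ∀ Y : ℕ, Y < 56 → Y ∣ 6048 →
    ∀ e ∈ [(1 : ℤ), -1], ∀ ε ∈ [(1 : ℤ), -1],
      (X : ℤ) % 7 = e % 7 → (Y : ℤ) % 7 = ε * 3 % 7 → ε * (Y : ℤ) = 1 + (-27 + e * (X : ℤ)) →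
      6 ∣ X ∨ 6 ∣ Y := by decide +kernel

/-- A degree divisible by six. -/
theorem exists_six_dvd {G : Type*} [Group G] [Fintype G] (hG : Nat.card G = 6048)
    (hperf : commutator G = ⊤) (D : SevenData G)
    (h27 : ∃ χ : IrrCharacter G, charDegree (χ : G → ℂ) = 27) :
    ∃ χ : IrrCharacter G, 6 ∣ charDegree (χ : G → ℂ) := by
  classical
  obtain ⟨s, hs⟩ := h27
  set d : IrrCharacter G → ℕ := fun χ => charDegree (χ : G → ℂ) with hd
  have hnotY : ∀ χ, d χ % 7 = 1 ∨ d χ % 7 = 6 → χ ∉ D.Y := by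
    intro χ hχ h
    have h2 := D.congY χ h
    unfold Int.ModEq at h2
    simp only [hd] at hχ
    rcases D.hε with h1 | h1 <;> rw [h1] at h2 <;> omega
  have hinX : ∀ χ, d χ % 7 = 1 ∨ d χ % 7 = 6 → χ ∈ D.X := by
    intro χ hχ
    refine (D.cover χ ?_).resolve_right (hnotY χ hχ)
    simp only [hd] at hχ
    omega
  set o := H26.oneIrr G with ho
  have hdo : d o = 1 := H44.charDegree_oneIrr
  have hds : d s = 27 := hs
  have hoX := hinX o (by rw [hdo]; norm_num)
  have hsX := hinX s (by rw [hds]; norm_num)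
  have hXf : (Set.toFinite D.X).toFinset.card = 3 := by
    rw [← Nat.card_eq_card_finite_toFinset, D.cardX]
  have hos : o ≠ s := fun h => by rw [h, hds] at hdo; omega
  obtain ⟨x, hxX, hxo, hxs⟩ : ∃ x, x ∈ D.X ∧ x ≠ o ∧ x ≠ s := by
    by_contra h
    push Not at h
    have hsub : (Set.toFinite D.X).toFinset ⊆ {o, s} := fun x hx => by
      rw [Finset.mem_insert, Finset.mem_singleton]
      by_contra h'
      push Not at h'
      exact h'.2 (h x ((Set.Finite.mem_toFinset _).mp hx) h'.1)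
    have := Finset.card_le_card hsub
    rw [hXf, Finset.card_pair hos] at this
    omega
  obtain ⟨t₁, ht₁, t₂, ht₂, ht⟩ : ∃ a ∈ D.Y, ∃ b ∈ D.Y, a ≠ b := by
    have h := D.cardY
    rw [Nat.card_coe_set_eq, Set.ncard_eq_two] at h
    obtain ⟨a, b, hab, he⟩ := h
    exact ⟨a, by simp [he], b, by simp [he], hab⟩
  have hX3 : (Set.toFinite D.X).toFinset = {o, s, x} := by
    refine (Finset.eq_of_subset_of_card_le ?_ ?_).symm
    · intro y hy
      simp only [Finset.mem_insert, Finset.mem_singleton] at hy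
      rw [Set.Finite.mem_toFinset]
      rcases hy with rfl | rfl | rfl <;> assumption
    · rw [hXf, Finset.card_insert_of_notMem (by simp [hos, Ne.symm hxo]), Finset.card_pair (Ne.symm hxs)]
  have heq := D.eqn t₁ ht₁
  rw [finsum_mem_eq_finite_toFinset_sum _ (Set.toFinite _), hX3,
    Finset.sum_insert (by simp [hos, Ne.symm hxo]), Finset.sum_pair (Ne.symm hxs)] at heq
  have heo : D.εX o = 1 := by
    obtain ⟨h1, h2⟩ := D.hεX o hoX
    unfold Int.ModEq at h2
    simp only [hd] at hdo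
    rw [hdo] at h2
    rcases h1 with h1 | h1 <;> rw [h1] at h2 ⊢ <;> omega
  have hes : D.εX s = -1 := by
    obtain ⟨h1, h2⟩ := D.hεX s hsX
    unfold Int.ModEq at h2
    rw [hs] at h2
    rcases h1 with h1 | h1 <;> rw [h1] at h2 ⊢ <;> omega
  simp only [hd] at hdo
  rw [heo, hes, hdo, hs] at heq
  obtain ⟨hx1, hx2⟩ := D.hεX x hxX
  have hy2 := D.congY t₁ ht₁
  set X := charDegree (x : G → ℂ) with hX
  set Y := charDegree (t₁ : G → ℂ) with hY
  have hXne : X ≠ 1 := fun h => hxo (eq_oneIrr_of_degree_one hperf x h)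
  have hbound : 1 + 27 ^ 2 + X ^ 2 + 2 * Y ^ 2 ≤ 6048 := by
    rw [← hG, ← H44.sum_charDegree_sq]
    have hd5 : ∀ y ∈ D.Y, y ≠ o ∧ y ≠ s ∧ y ≠ x := fun y hy =>
      ⟨fun h => Set.disjoint_left.mp D.disj hoX (h ▸ hy), fun h => Set.disjoint_left.mp D.disj hsX (h ▸ hy),
        fun h => Set.disjoint_left.mp D.disj hxX (h ▸ hy)⟩
    obtain ⟨a1, a2, a3⟩ := hd5 t₁ ht₁
    obtain ⟨b1, b2, b3⟩ := hd5 t₂ ht₂
    refine le_trans (le_of_eq ?_) (Finset.sum_le_sum_of_subset_of_nonneg
      (Finset.subset_univ ({o, s, x, t₁, t₂} : Finset (IrrCharacter G))) fun _ _ _ => Nat.zero_le _)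
    rw [Finset.sum_insert (by simp [hos, Ne.symm hxo, Ne.symm a1, Ne.symm b1]),
      Finset.sum_insert (by simp [Ne.symm hxs, Ne.symm a2, Ne.symm b2]),
      Finset.sum_insert (by simp [Ne.symm a3, Ne.symm b3]), Finset.sum_pair ht,
      D.eqY t₂ ht₂ t₁ ht₁, H44.charDegree_oneIrr, hs, ← hX, ← hY]
    ring
  have hXd : X ∣ 6048 := hG ▸ H44.charDegree_dvd_card x
  have hYd : Y ∣ 6048 := hG ▸ H44.charDegree_dvd_card t₁
  have hXlt : X < 78 := by nlinarith
  have hYlt : Y < 56 := by nlinarith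
  rcases six_table X hXlt hXd hXne Y hYlt hYd (D.εX x) (by rcases hx1 with h | h <;> simp [h]) D.ε
    (by rcases D.hε with h | h <;> simp [h]) hx2 hy2 (by push_cast at heq; linarith) with h | h
  · exact ⟨x, h⟩
  · exact ⟨t₁, h⟩

end Cfsg.Agent.H38.UTT
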